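/-
Certificate data of a coset enumeration.
-/
import Cfsg.Agent.Lib.CosetEnum.Sub
import Cfsg.Agent.Lib.Co3Recog.EnumG.Data
import Cfsg.Agent.Lib.Co3Recog.EnumG.Facts0
import Cfsg.Agent.Lib.Co3Recog.EnumG.Rows0

set_option autoImplicit false
set_option maxRecDepth 1000000

namespace CfsgLib.Co3Recog.EnumG

open CfsgLib.CosetEnum

theorem holds {Ω : Type} (base : Ω) (s : ℕ → Ω → Ω) (hinv : ∀ x v, s x (s x v) = v) (hk : ∀ v, s data.k v = v)
    (hwh : ∀ w < data.nh, run s (wordOf (data.words.get w)) base = base)
    (hwr : ∀ w, data.nh ≤ w → w < data.nw → ∀ v, run s (wordOf (data.words.get w)) v = v) :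
    ∀ i < 1229, data.Holds base s i := by
  have h0 : ∀ i < 0, data.Holds base s i := fun i hi => absurd hi (Nat.not_lt_zero i)
  have h1 : ∀ i < 1229, data.Holds base s i := fun i hi =>
    Data.okChunk_sound hinv hk hwh hwr just0 0 just0_ok h0 i (by rw [just0_len]; exact hi)
  exact h1

theorem rows {Ω : Type} (base : Ω) (s : ℕ → Ω → Ω) (hinv : ∀ x v, s x (s x v) = v) (hk : ∀ v, s data.k v = v)
    (hwh : ∀ w < data.nh, run s (wordOf (data.words.get w)) base = base)
    (hwr : ∀ w, data.nh ≤ w → w < data.nw → ∀ v, run s (wordOf (data.words.get w)) v = v) :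
    ∀ d < 276, RowOK data table base s d := by
  have hf := holds base s hinv hk hwh hwr
  have hk16 : data.k < 16 := show 7 < 16 by decide
  have h0 : ∀ d < 0, RowOK data table base s d := fun d hd => absurd hd (Nat.not_lt_zero d)
  have h1 : ∀ d < 276, RowOK data table base s d := fun d hd =>
    okRows_sound hinv hk hk16 hf rows0 0 rows0_ok h0 d (by rw [rows0_len]; exact hd)
  exact h1

/-- The certified bound. -/
noncomputable def sheet : Sheet where
  D := data
  T := table
  rels := rels
  hw := hw
  rots := rots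
  nh_le := show 6 ≤ 120 by decide
  hn := show 0 < 276 by decide
  hrep := by decide +kernel
  words_ok := by decide +kernel
  facts_ok := rows

end CfsgLib.Co3Recog.EnumG
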